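import Cfsg.Agent.H889.Mono.FiveAlg
import Cfsg.Agent.H225.Gen.Long
import Cfsg.Agent.Nodes.KindBase

/-!
# S2187, M9 (`p = 5`, `E₈`): `stab5`, `split5`, `lam2` (helper889)
-/

set_option autoImplicit false
set_option linter.unusedSectionVars false
set_option linter.unusedSimpArgs false

namespace Cfsg.Agent.H889.Mono.Five

open Polynomial CoxeterSystem
open Cfsg Cfsg.Lie Cfsg.Agent.ChevalleyStructure.CoxeterGeom Cfsg.Agent.Tits.Roots Cfsg.Agent.Tits.Core
  Cfsg.Agent.Nodes.Comb Cfsg.Agent.Nodes.SubComb Cfsg.Agent.Nodes.PosPair Cfsg.Agent.Nodes.Coroot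
  Cfsg.Agent.Nodes.KindBase

section base

variable {I : Type*} [Fintype I] [DecidableEq I]

/-- the base change of an endomorphism -/
noncomputable def qq : Module.End ℤ (I → ℤ) →+* Module.End ℚ (I → ℚ) :=
  ((Matrix.toLinAlgEquiv' : Matrix I I ℚ ≃ₐ[ℚ] _) : Matrix I I ℚ →+* Module.End ℚ (I → ℚ)).comp
    (((Int.castRingHom ℚ).mapMatrix : Matrix I I ℤ →+* Matrix I I ℚ).comp
      ((LinearMap.toMatrixAlgEquiv' : Module.End ℤ (I → ℤ) ≃ₐ[ℤ] _) : Module.End ℤ (I → ℤ) →+* Matrix I I ℤ))

/-- the base change of a vector -/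
def cst (x : I → ℤ) : I → ℚ := fun i => (x i : ℚ)

theorem cst_inj {x y : I → ℤ} (h : cst x = cst y) : x = y := by
  funext i
  have h1 : (x i : ℚ) = (y i : ℚ) := congrFun h i
  exact_mod_cast h1

theorem cst_zero : cst (0 : I → ℤ) = 0 := by funext i; simp [cst]

theorem cst_add (x y : I → ℤ) : cst (x + y) = cst x + cst y := by funext i; simp [cst]

theorem qq_cst (T : Module.End ℤ (I → ℤ)) (x : I → ℤ) : qq T (cst x) = cst (T x) := by
  funext i
  have h1 : T x = (LinearMap.toMatrixAlgEquiv' T).mulVec x := by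
    rw [← Matrix.toLinAlgEquiv'_apply, Matrix.toLinAlgEquiv'_toMatrixAlgEquiv']
  have h2 : qq T (cst x) = (((Int.castRingHom ℚ).mapMatrix (LinearMap.toMatrixAlgEquiv' T)) : Matrix I I ℚ).mulVec (cst x) :=
    Matrix.toLinAlgEquiv'_apply _ _
  rw [h2]
  show _ = ((T x i : ℤ) : ℚ)
  rw [h1]
  simp only [Matrix.mulVec, dotProduct, cst, RingHom.mapMatrix_apply, Matrix.map_apply, Int.cast_sum, Int.cast_mul,
    eq_intCast]

/-- the base change of a functional -/
def lq (l : (I → ℤ) →+ ℤ) : (I → ℚ) →ₗ[ℚ] ℚ where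
  toFun z := ∑ i, z i * (l (Pi.single i 1) : ℚ)
  map_add' x y := by simp only [Pi.add_apply, add_mul, Finset.sum_add_distrib]
  map_smul' m x := by
    simp only [Pi.smul_apply, smul_eq_mul, RingHom.id_apply, Finset.mul_sum, mul_assoc]

theorem lq_cst (l : (I → ℤ) →+ ℤ) (x : I → ℤ) : lq l (cst x) = (l x : ℚ) := by
  show ∑ i, (x i : ℚ) * (l (Pi.single i 1) : ℚ) = (l x : ℚ)
  have h1 : x = ∑ i, x i • (Pi.single i 1 : I → ℤ) := by
    funext j
    simp [Finset.sum_apply, Pi.single_apply]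
  conv_rhs => rw [h1, map_sum]
  simp only [map_zsmul, smul_eq_mul, Int.cast_sum, Int.cast_mul]

end base

section W

variable {I W : Type*} [Fintype I] [DecidableEq I] [Group W] {M : CoxeterMatrix I}
  (cs : CoxeterSystem M W) {A : I → I → ℤ} (h : IsCartan M A)

/-- the norm element -/
theorem phi_cst {w : W} {x : I → ℤ} (hx : x + rep cs h w x + rep cs h w (rep cs h w x) +
    rep cs h w (rep cs h w (rep cs h w x)) + rep cs h w (rep cs h w (rep cs h w (rep cs h w x))) = 0) :
    aeval (qq (rep cs h w)) (cyclotomic 5 ℚ) (cst x) = 0 := by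
  rw [aeval_phi, qq_cst, qq_cst, qq_cst, qq_cst, ← cst_add, ← cst_add, ← cst_add, ← cst_add, hx, cst_zero]

theorem pow_cst (w : W) (k : ℕ) (x : I → ℤ) : (qq (rep cs h w) ^ k) (cst x) = cst (rep cs h (w ^ k) x) := by
  rw [← map_pow, ← map_pow, qq_cst]

theorem five {w : W} (hw : w ^ 5 = 1) (x : I → ℤ) :
    rep cs h w (rep cs h w (rep cs h w (rep cs h w (rep cs h w x)))) = x := by
  have h1 : rep cs h (w ^ 5) x = x := by rw [hw, map_one, Module.End.one_apply]
  simpa only [pow_succ, pow_zero, one_mul, rep_mul_apply] using h1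

/-- **`stab5`**, general form -/
theorem stab_gen (h8 : Fintype.card I = 8) {w v : W} (hc : w * v = v * w) (hw : w ^ 5 = 1) (hv : v ^ 5 = 1) {b : I → ℤ}
    (hf : b + rep cs h w b + rep cs h w (rep cs h w b) + rep cs h w (rep cs h w (rep cs h w b)) +
      rep cs h w (rep cs h w (rep cs h w (rep cs h w b))) ≠ 0) {x : I → ℤ}
    (hx : x + rep cs h w x + rep cs h w (rep cs h w x) + rep cs h w (rep cs h w (rep cs h w x)) +
      rep cs h w (rep cs h w (rep cs h w (rep cs h w x))) = 0) :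
    ∃ j : ℕ, rep cs h v x = rep cs h (w ^ j) x := by
  have hfix : qq (rep cs h w) (cst (b + rep cs h w b + rep cs h w (rep cs h w b) + rep cs h w (rep cs h w (rep cs h w b)) +
      rep cs h w (rep cs h w (rep cs h w (rep cs h w b))))) = cst (b + rep cs h w b + rep cs h w (rep cs h w b) +
      rep cs h w (rep cs h w (rep cs h w b)) + rep cs h w (rep cs h w (rep cs h w (rep cs h w b)))) := by
    rw [qq_cst]
    congr 1
    simp only [map_add, five cs h hw]
    abel
  have hfr : Module.finrank ℚ (I → ℚ) = 8 := by rw [Module.finrank_fintype_fun_eq_card, h8]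
  obtain ⟨j, hj⟩ := exists_pow hfr (w := qq (rep cs h w)) (v := qq (rep cs h v)) hfix (fun h0 => hf (cst_inj (h0.trans cst_zero.symm)))
    (phi_cst cs h hx) (by rw [← map_mul, ← map_mul, ← map_mul, ← map_mul, hc]) (by rw [← map_pow, ← map_pow, hv, map_one, map_one])
  refine ⟨j, cst_inj ?_⟩
  rw [← qq_cst, hj, pow_cst]

/-- a vector of `N` is a rational combination of the `wⁱ x` -/
theorem poly_gen (h8 : Fintype.card I = 8) {w : W} (hw : w ^ 5 = 1) {b : I → ℤ}
    (hf : b + rep cs h w b + rep cs h w (rep cs h w b) + rep cs h w (rep cs h w (rep cs h w b)) +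
      rep cs h w (rep cs h w (rep cs h w (rep cs h w b))) ≠ 0) {x y : I → ℤ} (hx0 : x ≠ 0)
    (hx : x + rep cs h w x + rep cs h w (rep cs h w x) + rep cs h w (rep cs h w (rep cs h w x)) +
      rep cs h w (rep cs h w (rep cs h w (rep cs h w x))) = 0)
    (hy : y + rep cs h w y + rep cs h w (rep cs h w y) + rep cs h w (rep cs h w (rep cs h w y)) +
      rep cs h w (rep cs h w (rep cs h w (rep cs h w y))) = 0) :
    ∃ P : ℚ[X], cst y = aeval (qq (rep cs h w)) P (cst x) := by
  have hfix : qq (rep cs h w) (cst (b + rep cs h w b + rep cs h w (rep cs h w b) + rep cs h w (rep cs h w (rep cs h w b)) +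
      rep cs h w (rep cs h w (rep cs h w (rep cs h w b))))) = cst (b + rep cs h w b + rep cs h w (rep cs h w b) +
      rep cs h w (rep cs h w (rep cs h w b)) + rep cs h w (rep cs h w (rep cs h w (rep cs h w b)))) := by
    rw [qq_cst]
    congr 1
    simp only [map_add, five cs h hw]
    abel
  have hfr : Module.finrank ℚ (I → ℚ) = 8 := by rw [Module.finrank_fintype_fun_eq_card, h8]
  exact exists_poly hfr hfix (fun h0 => hf (cst_inj (h0.trans cst_zero.symm))) (phi_cst cs h hx)
    (fun h0 => hx0 (cst_inj (h0.trans cst_zero.symm))) (phi_cst cs h hy)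

/-- a vector of `N` orthogonal to all the `wⁱ x` is zero -/
theorem zero_gen [Fintype W] (h8 : Fintype.card I = 8) {w : W} (hw : w ^ 5 = 1) {b : I → ℤ}
    (hf : b + rep cs h w b + rep cs h w (rep cs h w b) + rep cs h w (rep cs h w (rep cs h w b)) +
      rep cs h w (rep cs h w (rep cs h w (rep cs h w b))) ≠ 0) {x y : I → ℤ} (hx0 : x ≠ 0)
    (hx : x + rep cs h w x + rep cs h w (rep cs h w x) + rep cs h w (rep cs h w (rep cs h w x)) +
      rep cs h w (rep cs h w (rep cs h w (rep cs h w x))) = 0)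
    (hy : y + rep cs h w y + rep cs h w (rep cs h w y) + rep cs h w (rep cs h w (rep cs h w y)) +
      rep cs h w (rep cs h w (rep cs h w (rep cs h w y))) = 0)
    (hxy : ∀ k : ℕ, form cs h (rep cs h (w ^ k) x) y = 0) : y = 0 := by
  obtain ⟨P, hP⟩ := poly_gen cs h h8 hw hf hx0 hx hy
  by_contra hy0
  have hpos := form_pos cs h hy0
  let l : (I → ℤ) →+ ℤ :=
    { toFun := fun z => form cs h z y
      map_zero' := by rw [form_comm, form_zero_right]
      map_add' := fun z z' => form_add_left cs h z z' y }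
  have h1 : ∀ Q : ℚ[X], lq l (aeval (qq (rep cs h w)) Q (cst x)) = 0 := by
    intro Q
    induction Q using Polynomial.induction_on' with
    | add p q hp hq => rw [map_add, LinearMap.add_apply, map_add, hp, hq, add_zero]
    | monomial n a =>
      rw [aeval_monomial, Module.End.mul_apply, pow_cst, Module.algebraMap_end_apply, map_smul, lq_cst]
      show a • ((form cs h (rep cs h (w ^ n) x) y : ℤ) : ℚ) = 0
      rw [hxy, Int.cast_zero, smul_zero]
  have h2 := h1 P
  rw [← hP, lq_cst] at h2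
  have h3 : form cs h y y = 0 := by exact_mod_cast h2
  omega

variable [Finite W]

/-! ### the orbit of a vector -/

theorem pow_mod_five {G : Type*} [Monoid G] {w : G} (n : ℕ) (hw : w ^ 5 = 1) : w ^ n = w ^ (n % 5) := by
  conv_lhs => rw [← Nat.div_add_mod n 5, pow_add, pow_mul, hw, one_pow, one_mul]

/-- `wⁱ b` -/
noncomputable def ob (w : W) (b : I → ℤ) (i : ZMod 5) : I → ℤ := rep cs h (w ^ i.val) b

theorem ob_zero (w : W) (b : I → ℤ) : ob cs h w b 0 = b := by
  show rep cs h (w ^ 0) b = b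
  rw [pow_zero, map_one, Module.End.one_apply]

theorem rep_ob {w : W} (hw : w ^ 5 = 1) (b : I → ℤ) (i : ZMod 5) : rep cs h w (ob cs h w b i) = ob cs h w b (i + 1) := by
  show rep cs h w (rep cs h (w ^ i.val) b) = rep cs h (w ^ (i + 1).val) b
  rw [← rep_mul_apply, ← pow_succ']
  have h1 : (i + 1).val = (i.val + 1) % 5 := by revert i; decide
  rw [h1, ← pow_mod_five _ hw]

theorem form_ob {w : W} (hw : w ^ 5 = 1) [Fintype W] (b : I → ℤ) (i j : ZMod 5) :
    form cs h (ob cs h w b i) (ob cs h w b j) = form cs h (ob cs h w b (i - j)) b := by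
  have key : ∀ k : ℕ, ∀ i j : ZMod 5, form cs h (ob cs h w b (i + k)) (ob cs h w b (j + k)) =
      form cs h (ob cs h w b i) (ob cs h w b j) := by
    intro k
    induction k with
    | zero => intro i j; rw [Nat.cast_zero, add_zero, add_zero]
    | succ k ih =>
      intro i j
      rw [Nat.cast_succ, ← add_assoc, ← add_assoc, ← rep_ob cs h hw, ← rep_ob cs h hw, form_rep, ih]
  have h1 := key j.val (i - j) 0
  rw [ZMod.natCast_zmod_val, sub_add_cancel, zero_add, ob_zero] at h1
  exact h1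

theorem form_ob_neg {w : W} (hw : w ^ 5 = 1) [Fintype W] (b : I → ℤ) (i : ZMod 5) :
    form cs h (ob cs h w b (-i)) b = form cs h (ob cs h w b i) b := by
  have h1 := form_ob cs h hw b 0 i
  rw [zero_sub, ob_zero] at h1
  rw [← h1, form_comm]

/-- the orbit sum in terms of `ob` -/
theorem sum_ob {w : W} (hw : w ^ 5 = 1) (b : I → ℤ) : b + rep cs h w b + rep cs h w (rep cs h w b) +
    rep cs h w (rep cs h w (rep cs h w b)) + rep cs h w (rep cs h w (rep cs h w (rep cs h w b))) =
    ob cs h w b 0 + ob cs h w b 1 + ob cs h w b 2 + ob cs h w b 3 + ob cs h w b 4 := by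
  have e1 : rep cs h w b = ob cs h w b 1 := by
    conv_lhs => rw [← ob_zero cs h w b]
    rw [rep_ob cs h hw]; rfl
  have e2 : rep cs h w (ob cs h w b 1) = ob cs h w b 2 := by rw [rep_ob cs h hw]; rfl
  have e3 : rep cs h w (ob cs h w b 2) = ob cs h w b 3 := by rw [rep_ob cs h hw]; rfl
  have e4 : rep cs h w (ob cs h w b 3) = ob cs h w b 4 := by rw [rep_ob cs h hw]; rfl
  rw [e1, e2, e3, e4, ob_zero]

/-- the orbit sum is not zero as soon as its product with `b` is not -/
theorem sum_ne {w : W} (hw : w ^ 5 = 1) [Fintype W] {b : I → ℤ}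
    (hG : form cs h b b + 2 * form cs h (ob cs h w b 1) b + 2 * form cs h (ob cs h w b 2) b ≠ 0) :
    b + rep cs h w b + rep cs h w (rep cs h w b) +
    rep cs h w (rep cs h w (rep cs h w b)) + rep cs h w (rep cs h w (rep cs h w (rep cs h w b))) ≠ 0 := by
  intro h0
  rw [sum_ob cs h hw] at h0
  have h1 := congrArg (fun z => form cs h z b) h0
  simp only [form_add_left] at h1
  rw [form_comm cs h 0 b, form_zero_right, ob_zero] at h1
  have h3 := form_ob_neg cs h hw b 1
  have h4 := form_ob_neg cs h hw b 2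
  have h3' : (-1 : ZMod 5) = 4 := by decide
  have h4' : (-2 : ZMod 5) = 3 := by decide
  rw [h3'] at h3
  rw [h4'] at h4
  rw [h3, h4] at h1
  apply hG
  linarith

theorem ob_sub {w : W} (hw : w ^ 5 = 1) (b : I → ℤ) (i : ZMod 5) :
    ob cs h w (b - rep cs h w b) i = ob cs h w b i - ob cs h w b (i + 1) := by
  show rep cs h (w ^ i.val) (b - rep cs h w b) = _
  rw [map_sub, ← rep_ob cs h hw]
  congr 1
  show _ = rep cs h w (rep cs h (w ^ i.val) b)
  rw [← rep_mul_apply, ← rep_mul_apply, ← pow_succ, ← pow_succ']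

/-- the Gram numbers of `c = b - w b` -/
theorem form_sub {w : W} (hw : w ^ 5 = 1) [Fintype W] (b : I → ℤ) (i : ZMod 5) :
    form cs h (ob cs h w (b - rep cs h w b) i) (b - rep cs h w b) =
      2 * form cs h (ob cs h w b i) b - form cs h (ob cs h w b (i - 1)) b - form cs h (ob cs h w b (i + 1)) b := by
  have e1 : b - rep cs h w b = ob cs h w b 0 - ob cs h w b 1 := by
    have := ob_sub cs h hw b 0
    rw [ob_zero, zero_add] at this
    exact this
  rw [ob_sub cs h hw]
  conv_lhs => rw [e1]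
  rw [form_sub_left, form_sub_right, form_sub_right, form_ob cs h hw, form_ob cs h hw, form_ob cs h hw b (i + 1) 0,
    form_ob cs h hw b (i + 1) 1, sub_zero, sub_zero, add_sub_cancel_right]
  ring

theorem sum_sub {w : W} (hw : w ^ 5 = 1) (b : I → ℤ) : (b - rep cs h w b) + rep cs h w (b - rep cs h w b) +
    rep cs h w (rep cs h w (b - rep cs h w b)) + rep cs h w (rep cs h w (rep cs h w (b - rep cs h w b))) +
    rep cs h w (rep cs h w (rep cs h w (rep cs h w (b - rep cs h w b)))) = 0 := by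
  simp only [map_sub, five cs h hw]
  abel

/-- **`stab5`** for an arbitrary root -/
theorem stab_root (h8 : Fintype.card I = 8) {w v : W} (hc : w * v = v * w) (hw : w ^ 5 = 1) (hv : v ^ 5 = 1)
    {b : I → ℤ} (hb : IsRoot cs h b) (h1 : cpr cs h (rep cs h w b) b = 1) (h2 : cpr cs h (rep cs h (w ^ 2) b) b = 1) :
    ∃ j : ℕ, rep cs h v (b - rep cs h w b) = rep cs h (w ^ j) (b - rep cs h w b) := by
  have := Fintype.ofFinite W
  refine stab_gen cs h h8 hc hw hv (b := b) (sum_ne cs h hw ?_) (sum_sub cs h hw b)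
  have e1 := two_form_cpr cs h (rep cs h w b) hb
  have e2 := two_form_cpr cs h (rep cs h (w ^ 2) b) hb
  rw [h1] at e1
  rw [h2] at e2
  have e3 : ob cs h w b 1 = rep cs h w b := by
    show rep cs h (w ^ 1) b = _
    rw [pow_one]
  have e4 : ob cs h w b 2 = rep cs h (w ^ 2) b := rfl
  have hpos := form_pos cs h hb.ne_zero
  rw [e3, e4]
  intro h0
  linarith

theorem pow_ob {w : W} (hw : w ^ 5 = 1) (b : I → ℤ) (n : ℕ) : rep cs h (w ^ n) b = ob cs h w b n := by
  show _ = rep cs h (w ^ (n : ZMod 5).val) b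
  rw [ZMod.val_natCast, ← pow_mod_five _ hw]

theorem z5 (k : ZMod 5) : k = 0 ∨ k = 1 ∨ k = 2 ∨ k = 3 ∨ k = 4 := by revert k; decide
theorem z10 (j : ZMod 5) : ¬ j + 1 = j := by revert j; decide
theorem z20 (j : ZMod 5) : ¬ j + 2 = j := by revert j; decide
theorem z30 (j : ZMod 5) : ¬ j + 3 = j := by revert j; decide
theorem z40 (j : ZMod 5) : ¬ j + 4 = j := by revert j; decide
theorem z11 (j : ZMod 5) : j + 1 = j + 1 ∨ j = j + 1 + 1 := by revert j; decide
theorem z21 (j : ZMod 5) : ¬ (j + 2 = j + 1 ∨ j = j + 2 + 1) := by revert j; decide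
theorem z31 (j : ZMod 5) : ¬ (j + 3 = j + 1 ∨ j = j + 3 + 1) := by revert j; decide
theorem z41 (j : ZMod 5) : j + 4 = j + 1 ∨ j = j + 4 + 1 := by revert j; decide

/-- the Gram numbers of `c = b - w b` for `⟨w b, b⟩ = ⟨w² b, b⟩ = 1` -/
theorem gram_c [Fintype W] {w : W} (hw : w ^ 5 = 1) {b : I → ℤ} (hb : IsRoot cs h b) (h1 : cpr cs h (rep cs h w b) b = 1)
    (h2 : cpr cs h (rep cs h (w ^ 2) b) b = 1) :
    IsRoot cs h (b - rep cs h w b) ∧ ∀ i j : ZMod 5, cpr cs h (ob cs h w (b - rep cs h w b) i) (ob cs h w (b - rep cs h w b) j) =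
      if i = j then 2 else if i = j + 1 ∨ j = i + 1 then -1 else 0 := by
  have e1 := two_form_cpr cs h (rep cs h w b) hb
  have e2 := two_form_cpr cs h (rep cs h (w ^ 2) b) hb
  rw [h1, one_mul] at e1
  rw [h2, one_mul] at e2
  have e3 : ob cs h w b 1 = rep cs h w b := by
    show rep cs h (w ^ 1) b = _
    rw [pow_one]
  have e4 : ob cs h w b 2 = rep cs h (w ^ 2) b := rfl
  have hwb : IsRoot cs h (rep cs h w b) := hb.act w
  have hN : form cs h (rep cs h w b) (rep cs h w b) = form cs h b b := form_rep cs h w b b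
  have h1' : cpr cs h b (rep cs h w b) = 1 := by
    apply cpr_eq_of_form cs h hwb
    rw [hN, form_comm, e1, one_mul]
  have hr : IsRoot cs h (b - rep cs h w b) := (cpr_diff cs h hb hwb h1' h1 b).1
  refine ⟨hr, fun i j => ?_⟩
  have g1 := e1
  have g2 := e2
  rw [← e3] at g1
  rw [← e4] at g2
  have g4 := form_ob_neg cs h hw b 1
  have g3 := form_ob_neg cs h hw b 2
  have g4' : (-1 : ZMod 5) = 4 := by decide
  have g3' : (-2 : ZMod 5) = 3 := by decide
  rw [g4'] at g4
  rw [g3'] at g3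
  have g0 : form cs h (ob cs h w b 0) b = form cs h b b := by rw [ob_zero]
  have f0 := form_sub cs h hw b 0
  have f1 := form_sub cs h hw b 1
  have f2 := form_sub cs h hw b 2
  have f3 := form_sub cs h hw b 3
  have f4 := form_sub cs h hw b 4
  have z0m : (0 - 1 : ZMod 5) = 4 := by decide
  have z0p : (0 + 1 : ZMod 5) = 1 := by decide
  have z1m : (1 - 1 : ZMod 5) = 0 := by decide
  have z1p : (1 + 1 : ZMod 5) = 2 := by decide
  have z2m : (2 - 1 : ZMod 5) = 1 := by decide
  have z2p : (2 + 1 : ZMod 5) = 3 := by decide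
  have z3m : (3 - 1 : ZMod 5) = 2 := by decide
  have z3p : (3 + 1 : ZMod 5) = 4 := by decide
  have z4m : (4 - 1 : ZMod 5) = 3 := by decide
  have z4p : (4 + 1 : ZMod 5) = 0 := by decide
  rw [z0m, z0p] at f0
  rw [z1m, z1p] at f1
  rw [z2m, z2p] at f2
  rw [z3m, z3p] at f3
  rw [z4m, z4p] at f4
  have hcj : IsRoot cs h (ob cs h w (b - rep cs h w b) j) := hr.act _
  have hcc : form cs h (ob cs h w (b - rep cs h w b) j) (ob cs h w (b - rep cs h w b) j) = form cs h b b := by
    show form cs h (rep cs h _ (b - rep cs h w b)) (rep cs h _ (b - rep cs h w b)) = _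
    rw [form_rep]
    rw [ob_zero] at f0
    linarith
  apply cpr_eq_of_form cs h hcj
  rw [hcc, form_ob cs h hw]
  obtain ⟨k, hk⟩ : ∃ k : ZMod 5, k = i - j := ⟨_, rfl⟩
  have hik : i = j + k := by rw [hk]; ring
  rw [← hk, hik]
  rcases z5 k with rfl | rfl | rfl | rfl | rfl
  · rw [if_pos (by ring)]; linarith
  · rw [if_neg (z10 j), if_pos (z11 j)]; linarith
  · rw [if_neg (z20 j), if_neg (z21 j)]; linarith
  · rw [if_neg (z30 j), if_neg (z31 j)]; linarith
  · rw [if_neg (z40 j), if_pos (z41 j)]; linarith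

/-- **`split5`** for an arbitrary root: `w` is the product of four reflections -/
theorem split_root (h8 : Fintype.card I = 8) {w : W} (hw : w ^ 5 = 1) {b : I → ℤ}
    (hb : IsRoot cs h b) (h1 : cpr cs h (rep cs h w b) b = 1) (h2 : cpr cs h (rep cs h (w ^ 2) b) b = 1)
    {s₀ s₁ s₂ s₃ : W} (hs₀ : ∀ x, rep cs h s₀ x = x - cpr cs h x (b - rep cs h w b) • (b - rep cs h w b))
    (hs₁ : ∀ x, rep cs h s₁ x = x - cpr cs h x (rep cs h w (b - rep cs h w b)) • rep cs h w (b - rep cs h w b))
    (hs₂ : ∀ x, rep cs h s₂ x = x - cpr cs h x (rep cs h (w ^ 2) (b - rep cs h w b)) • rep cs h (w ^ 2) (b - rep cs h w b))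
    (hs₃ : ∀ x, rep cs h s₃ x = x - cpr cs h x (rep cs h (w ^ 3) (b - rep cs h w b)) • rep cs h (w ^ 3) (b - rep cs h w b)) :
    (s₀ * s₁ * s₂ * s₃)⁻¹ * w = 1 := by
  have := Fintype.ofFinite W
  obtain ⟨hr, hg⟩ := gram_c cs h hw hb h1 h2
  have e1 := two_form_cpr cs h (rep cs h w b) hb
  have e2 := two_form_cpr cs h (rep cs h (w ^ 2) b) hb
  rw [h1] at e1
  rw [h2] at e2
  have hpos := form_pos cs h hb.ne_zero
  set c := b - rep cs h w b with hc
  have o0 : c = ob cs h w c 0 := (ob_zero cs h w c).symm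
  have o1 : rep cs h w c = ob cs h w c 1 := by
    show _ = rep cs h (w ^ 1) c
    rw [pow_one]
  have o2 : rep cs h (w ^ 2) c = ob cs h w c 2 := rfl
  have o3 : rep cs h (w ^ 3) c = ob cs h w c 3 := rfl
  have t0 : ∀ x, rep cs h s₀ x = x - cpr cs h x (ob cs h w c 0) • ob cs h w c 0 := by rw [← o0]; exact hs₀
  have t1 : ∀ x, rep cs h s₁ x = x - cpr cs h x (ob cs h w c 1) • ob cs h w c 1 := by rw [← o1]; exact hs₁
  have t2 : ∀ x, rep cs h s₂ x = x - cpr cs h x (ob cs h w c 2) • ob cs h w c 2 := hs₂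
  have t3 : ∀ x, rep cs h s₃ x = x - cpr cs h x (ob cs h w c 3) • ob cs h w c 3 := hs₃
  have hsum : ob cs h w c 0 + ob cs h w c 1 + ob cs h w c 2 + ob cs h w c 3 + ob cs h w c 4 = 0 := by
    rw [← sum_ob cs h hw, hc]; exact sum_sub cs h hw b
  have g00 : cpr cs h (ob cs h w c 0) (ob cs h w c 0) = 2 := by rw [hg]; decide
  have g01 : cpr cs h (ob cs h w c 0) (ob cs h w c 1) = -1 := by rw [hg]; decide
  have g02 : cpr cs h (ob cs h w c 0) (ob cs h w c 2) = 0 := by rw [hg]; decide
  have g03 : cpr cs h (ob cs h w c 0) (ob cs h w c 3) = 0 := by rw [hg]; decide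
  have g10 : cpr cs h (ob cs h w c 1) (ob cs h w c 0) = -1 := by rw [hg]; decide
  have g11 : cpr cs h (ob cs h w c 1) (ob cs h w c 1) = 2 := by rw [hg]; decide
  have g12 : cpr cs h (ob cs h w c 1) (ob cs h w c 2) = -1 := by rw [hg]; decide
  have g13 : cpr cs h (ob cs h w c 1) (ob cs h w c 3) = 0 := by rw [hg]; decide
  have g20 : cpr cs h (ob cs h w c 2) (ob cs h w c 0) = 0 := by rw [hg]; decide
  have g21 : cpr cs h (ob cs h w c 2) (ob cs h w c 1) = -1 := by rw [hg]; decide
  have g22 : cpr cs h (ob cs h w c 2) (ob cs h w c 2) = 2 := by rw [hg]; decide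
  have g23 : cpr cs h (ob cs h w c 2) (ob cs h w c 3) = -1 := by rw [hg]; decide
  have g30 : cpr cs h (ob cs h w c 3) (ob cs h w c 0) = 0 := by rw [hg]; decide
  have g31 : cpr cs h (ob cs h w c 3) (ob cs h w c 1) = 0 := by rw [hg]; decide
  have g32 : cpr cs h (ob cs h w c 3) (ob cs h w c 2) = -1 := by rw [hg]; decide
  have g33 : cpr cs h (ob cs h w c 3) (ob cs h w c 3) = 2 := by rw [hg]; decide
  set ρ := s₀ * s₁ * s₂ * s₃ with hρ
  have hrho : ∀ x, rep cs h ρ x = rep cs h s₀ (rep cs h s₁ (rep cs h s₂ (rep cs h s₃ x))) := by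
    intro x
    rw [hρ, rep_mul_apply, rep_mul_apply, rep_mul_apply]
  -- the action of `ρ` on the `c_i`
  have a00 : rep cs h s₀ (ob cs h w c 0) = -ob cs h w c 0 := by rw [t0, g00]; module
  have a01 : rep cs h s₀ (ob cs h w c 1) = ob cs h w c 1 + ob cs h w c 0 := by rw [t0, g10]; module
  have a02 : rep cs h s₀ (ob cs h w c 2) = ob cs h w c 2 := by rw [t0, g20]; module
  have a03 : rep cs h s₀ (ob cs h w c 3) = ob cs h w c 3 := by rw [t0, g30]; module
  have a10 : rep cs h s₁ (ob cs h w c 0) = ob cs h w c 0 + ob cs h w c 1 := by rw [t1, g01]; module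
  have a11 : rep cs h s₁ (ob cs h w c 1) = -ob cs h w c 1 := by rw [t1, g11]; module
  have a12 : rep cs h s₁ (ob cs h w c 2) = ob cs h w c 2 + ob cs h w c 1 := by rw [t1, g21]; module
  have a13 : rep cs h s₁ (ob cs h w c 3) = ob cs h w c 3 := by rw [t1, g31]; module
  have a20 : rep cs h s₂ (ob cs h w c 0) = ob cs h w c 0 := by rw [t2, g02]; module
  have a21 : rep cs h s₂ (ob cs h w c 1) = ob cs h w c 1 + ob cs h w c 2 := by rw [t2, g12]; module
  have a22 : rep cs h s₂ (ob cs h w c 2) = -ob cs h w c 2 := by rw [t2, g22]; module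
  have a23 : rep cs h s₂ (ob cs h w c 3) = ob cs h w c 3 + ob cs h w c 2 := by rw [t2, g32]; module
  have a30 : rep cs h s₃ (ob cs h w c 0) = ob cs h w c 0 := by rw [t3, g03]; module
  have a31 : rep cs h s₃ (ob cs h w c 1) = ob cs h w c 1 := by rw [t3, g13]; module
  have a32 : rep cs h s₃ (ob cs h w c 2) = ob cs h w c 2 + ob cs h w c 3 := by rw [t3, g23]; module
  have a33 : rep cs h s₃ (ob cs h w c 3) = -ob cs h w c 3 := by rw [t3, g33]; module
  have r0 : rep cs h ρ (ob cs h w c 0) = ob cs h w c 1 := by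
    rw [hrho]
    simp only [map_add, map_neg, a00, a01, a02, a03, a10, a11, a12, a13, a20, a21, a22, a23, a30, a31, a32, a33]
    abel
  have r1 : rep cs h ρ (ob cs h w c 1) = ob cs h w c 2 := by
    rw [hrho]
    simp only [map_add, map_neg, a00, a01, a02, a03, a10, a11, a12, a13, a20, a21, a22, a23, a30, a31, a32, a33]
    abel
  have r2 : rep cs h ρ (ob cs h w c 2) = ob cs h w c 3 := by
    rw [hrho]
    simp only [map_add, map_neg, a00, a01, a02, a03, a10, a11, a12, a13, a20, a21, a22, a23, a30, a31, a32, a33]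
    abel
  have r3 : rep cs h ρ (ob cs h w c 3) = ob cs h w c 4 := by
    have e5 : ob cs h w c 4 = -ob cs h w c 3 - ob cs h w c 2 - ob cs h w c 1 - ob cs h w c 0 := by
      rw [← sub_eq_zero, ← hsum]; abel
    rw [hrho, e5]
    simp only [map_add, map_neg, a00, a01, a02, a03, a10, a11, a12, a13, a20, a21, a22, a23, a30, a31, a32, a33]
    abel
  have r4 : rep cs h ρ (ob cs h w c 4) = ob cs h w c 0 := by
    have e5 : ob cs h w c 4 = -ob cs h w c 3 - ob cs h w c 2 - ob cs h w c 1 - ob cs h w c 0 := by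
      rw [← sub_eq_zero, ← hsum]; abel
    have e6 : ob cs h w c 0 = -ob cs h w c 4 - ob cs h w c 3 - ob cs h w c 2 - ob cs h w c 1 := by
      rw [← sub_eq_zero, ← hsum]; abel
    rw [e5, map_sub, map_sub, map_sub, map_neg, r0, r1, r2, r3]
    exact e6.symm
  have hr5 : ∀ i : ZMod 5, rep cs h ρ (ob cs h w c i) = ob cs h w c (i + 1) := by
    intro i
    rcases z5 i with rfl | rfl | rfl | rfl | rfl
    · exact r0
    · exact r1
    · exact r2
    · exact r3
    · exact r4
  have hfne : b + rep cs h w b + rep cs h w (rep cs h w b) + rep cs h w (rep cs h w (rep cs h w b)) +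
      rep cs h w (rep cs h w (rep cs h w (rep cs h w b))) ≠ 0 := by
    refine sum_ne cs h hw ?_
    have e3 : ob cs h w b 1 = rep cs h w b := by
      show rep cs h (w ^ 1) b = _
      rw [pow_one]
    have e4 : ob cs h w b 2 = rep cs h (w ^ 2) b := rfl
    rw [e3, e4]
    intro h0
    linarith
  have hmain : ρ = w := by
    apply rep_injective cs h
    apply LinearMap.ext
    intro x
    -- the fixed part
    set f := x + rep cs h w x + rep cs h w (rep cs h w x) + rep cs h w (rep cs h w (rep cs h w x)) +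
      rep cs h w (rep cs h w (rep cs h w (rep cs h w x))) with hf
    have hwf : rep cs h w f = f := by
      rw [hf]
      simp only [map_add, five cs h hw]
      abel
    have hfc : ∀ i : ZMod 5, cpr cs h f (ob cs h w c i) = 0 := by
      intro i
      have hci : IsRoot cs h (ob cs h w c i) := hr.act _
      apply cpr_eq_of_form cs h hci
      rw [zero_mul]
      have e3 : ∀ n : ℕ, rep cs h (w ^ n) f = f := by
        intro n
        induction n with
        | zero => rw [pow_zero, map_one, Module.End.one_apply]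
        | succ n ih => rw [pow_succ, rep_mul_apply, hwf, ih]
      have e4 : form cs h f (ob cs h w c i) = form cs h f c := by
        conv_lhs => rw [← e3 i.val]
        exact form_rep cs h _ _ _
      have e5 : form cs h f (rep cs h w b) = form cs h f b := by
        conv_lhs => rw [← hwf]
        exact form_rep cs h _ _ _
      rw [e4, hc, form_sub_right, e5]
      ring
    have hρf : rep cs h ρ f = f := by
      rw [hrho, t3, hfc, zero_smul, sub_zero, t2, hfc, zero_smul, sub_zero, t1, hfc, zero_smul, sub_zero, t0, hfc,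
        zero_smul, sub_zero]
    set y := (5 : ℤ) • x - f with hy
    have hwy : y + rep cs h w y + rep cs h w (rep cs h w y) + rep cs h w (rep cs h w (rep cs h w y)) +
        rep cs h w (rep cs h w (rep cs h w (rep cs h w y))) = 0 := by
      rw [hy]
      simp only [map_sub, map_smul, hwf]
      rw [hf]
      module
    obtain ⟨P, hP⟩ := poly_gen cs h h8 hw hfne hr.ne_zero (sum_sub cs h hw b) hwy
    have hQ : ∀ Q : ℚ[X], qq (rep cs h ρ) (aeval (qq (rep cs h w)) Q (cst c)) =
        qq (rep cs h w) (aeval (qq (rep cs h w)) Q (cst c)) := by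
      intro Q
      induction Q using Polynomial.induction_on' with
      | add p q hp hq => rw [map_add, LinearMap.add_apply, map_add, map_add, hp, hq]
      | monomial n a =>
        rw [aeval_monomial, Module.End.mul_apply, pow_cst, Module.algebraMap_end_apply, map_smul, map_smul, qq_cst, qq_cst,
          pow_ob cs h hw, hr5, rep_ob cs h hw]
    have hρy : rep cs h ρ y = rep cs h w y := by
      apply cst_inj
      rw [← qq_cst, ← qq_cst, hP]
      exact hQ P
    have h5 : (5 : ℤ) • rep cs h ρ x = (5 : ℤ) • rep cs h w x := by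
      have e3 : (5 : ℤ) • x = f + y := by rw [hy]; abel
      rw [← map_smul, ← map_smul, e3, LinearMap.map_add _ f y, LinearMap.map_add _ f y, hρf, hρy, hwf]
    exact smul_right_injective _ (by norm_num : (5 : ℤ) ≠ 0) h5
  rw [hmain, inv_mul_cancel]

end W

section E8

open Cfsg.Lie.ChevalleyDatum
open Cfsg.Agent.ChevalleyStructure Cfsg.Agent.ChevalleyStructure.Elts Cfsg.Agent.ChevalleyStructure.CoxeterGeomTypes
  Cfsg.Agent.ChevalleyStructure.NPerm
open Cfsg.Agent.Nodes Cfsg.Agent.Nodes.Reps Cfsg.Agent.Nodes.BNOf Cfsg.Agent.KFacts.RgdSL Cfsg.Agent.H123.ExcComb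
  Cfsg.Agent.Nodes.RGDChev Cfsg.Agent.BpExc.Fr
open Cfsg.Agent.H818.StrP.UTab Cfsg.Agent.H818.StrP.UAct

variable {M : CoxeterMatrix (Fin 8)} (hp : IsType chevE8 8 M)

/-- **`stab5`** (S2187, M9) -/
theorem stab5 {w v : M.Group} (hc : w * v = v * w) (hw : w ^ 5 = 1) (hv : v ^ 5 = 1) {b : Fin 8 → ℤ}
    (hb : b ∈ Cfsg.Agent.H225.Gen.LL M.toCoxeterSystem hp)
    (h1 : cpr M.toCoxeterSystem hp.isCartan (rep M.toCoxeterSystem hp.isCartan w b) b = 1)
    (h2 : cpr M.toCoxeterSystem hp.isCartan (rep M.toCoxeterSystem hp.isCartan (w ^ 2) b) b = 1) :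
    ∃ j : ℕ, rep M.toCoxeterSystem hp.isCartan v (b - rep M.toCoxeterSystem hp.isCartan w b) =
      rep M.toCoxeterSystem hp.isCartan (w ^ j) (b - rep M.toCoxeterSystem hp.isCartan w b) := by
  have := finite_W hp M.toCoxeterSystem
  exact stab_root M.toCoxeterSystem hp.isCartan (by simp) hc hw hv
    (Cfsg.Agent.H225.Gen.LL_root (by simp [HiList]) hp M.toCoxeterSystem hb) h1 h2

/-- **`split5`** (S2187, M9) -/
theorem split5 {w : M.Group} (hw : w ^ 5 = 1) {b : Fin 8 → ℤ} (hb : b ∈ Cfsg.Agent.H225.Gen.LL M.toCoxeterSystem hp)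
    (h1 : cpr M.toCoxeterSystem hp.isCartan (rep M.toCoxeterSystem hp.isCartan w b) b = 1)
    (h2 : cpr M.toCoxeterSystem hp.isCartan (rep M.toCoxeterSystem hp.isCartan (w ^ 2) b) b = 1)
    {s₀ s₁ s₂ s₃ : M.Group}
    (hs₀ : ∀ x, rep M.toCoxeterSystem hp.isCartan s₀ x = x - cpr M.toCoxeterSystem hp.isCartan x
      (b - rep M.toCoxeterSystem hp.isCartan w b) • (b - rep M.toCoxeterSystem hp.isCartan w b))
    (hs₁ : ∀ x, rep M.toCoxeterSystem hp.isCartan s₁ x = x - cpr M.toCoxeterSystem hp.isCartan x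
      (rep M.toCoxeterSystem hp.isCartan w (b - rep M.toCoxeterSystem hp.isCartan w b)) •
        rep M.toCoxeterSystem hp.isCartan w (b - rep M.toCoxeterSystem hp.isCartan w b))
    (hs₂ : ∀ x, rep M.toCoxeterSystem hp.isCartan s₂ x = x - cpr M.toCoxeterSystem hp.isCartan x
      (rep M.toCoxeterSystem hp.isCartan (w ^ 2) (b - rep M.toCoxeterSystem hp.isCartan w b)) •
        rep M.toCoxeterSystem hp.isCartan (w ^ 2) (b - rep M.toCoxeterSystem hp.isCartan w b))
    (hs₃ : ∀ x, rep M.toCoxeterSystem hp.isCartan s₃ x = x - cpr M.toCoxeterSystem hp.isCartan x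
      (rep M.toCoxeterSystem hp.isCartan (w ^ 3) (b - rep M.toCoxeterSystem hp.isCartan w b)) •
        rep M.toCoxeterSystem hp.isCartan (w ^ 3) (b - rep M.toCoxeterSystem hp.isCartan w b)) :
    (s₀ * s₁ * s₂ * s₃)⁻¹ * w = 1 := by
  have := finite_W hp M.toCoxeterSystem
  exact split_root M.toCoxeterSystem hp.isCartan (by simp) hw
    (Cfsg.Agent.H225.Gen.LL_root (by simp [HiList]) hp M.toCoxeterSystem hb) h1 h2 hs₀ hs₁ hs₂ hs₃

end E8

end Cfsg.Agent.H889.Mono.Five
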