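import Cfsg.Agent.H897.X3.Base
import Cfsg.Agent.H897.T5Cent
import Cfsg.Agent.H795.RowsA
import Cfsg.Agent.H818.Mono.Defs

/-!
# S2187, M10, part B: commuting pairs of elements of order `5` of `E₈` are toral (helper889)

* `toral_pair` : general form (simply laced, `p` prime to the determinant);
* `toral_two` : `E₈`, `p = 5`: `t ∈ T`, `t ^ 5 = f ^ 5 = 1`, `f t = t f` ==> `⟨t, f⟩` is toral.
-/

set_option autoImplicit false
set_option linter.unusedSectionVars false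

namespace Cfsg.Agent.H889.Mono

open CoxeterSystem Cfsg Cfsg.Lie Cfsg.Lie.ChevalleyDatum
open Cfsg.Agent.ChevalleyStructure Cfsg.Agent.ChevalleyStructure.Elts Cfsg.Agent.ChevalleyStructure.CoxeterGeom
  Cfsg.Agent.ChevalleyStructure.CoxeterGeomTypes Cfsg.Agent.ChevalleyStructure.NPerm
open Cfsg.Agent.Tits.Roots Cfsg.Agent.Tits.Core Cfsg.Agent.Nodes Cfsg.Agent.Nodes.Reps Cfsg.Agent.Nodes.BNOf
  Cfsg.Agent.Nodes.RGDChev Cfsg.Agent.Nodes.Bruhat
open Cfsg.Agent.KFacts.RgdField Cfsg.Agent.KFacts.RgdChevCoord Cfsg.Agent.BpExc.TorCent Cfsg.Agent.BpExc.TorChev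
open Cfsg.Agent.GpExc.Field Cfsg.Agent.BpExc.Tow Cfsg.Agent.BpExc.TowChev Cfsg.Agent.BpExc
open Cfsg.Agent.H129.TorusChar Cfsg.Agent.H897.T5Cent Cfsg.Agent.H795.TorSub Cfsg.Agent.H795.RowsA
open Cfsg.Agent.H897.T5Lat (Frm bf)

universe u

/-- commuting elements of order dividing `p` generate a `p`-group -/
theorem isPGroup_closure_pair {Y : Type*} [Group Y] {p : ℕ} {t f : Y} (ht : t ^ p = 1) (hf : f ^ p = 1)
    (hc : f * t = t * f) : IsPGroup p ↥(Subgroup.closure ({f, t} : Set Y)) := by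
  have hcomm : ∀ a ∈ ({f, t} : Set Y), ∀ b ∈ ({f, t} : Set Y), a * b = b * a := by
    rintro a (rfl | rfl) b (rfl | rfl)
    · rfl
    · exact hc
    · exact hc.symm
    · rfl
  have hab := Subgroup.isMulCommutative_closure hcomm
  rintro ⟨y, hy⟩
  refine ⟨1, ?_⟩
  apply Subtype.ext
  show y ^ p ^ 1 = 1
  rw [pow_one]
  induction hy using Subgroup.closure_induction with
  | mem x hx =>
    rcases hx with rfl | rfl
    · exact hf
    · exact ht
  | one => exact one_pow p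
  | mul a b ha hb iha ihb =>
    have h1 : Commute a b := congrArg Subtype.val (hab.is_comm.comm ⟨a, ha⟩ ⟨b, hb⟩)
    rw [h1.mul_pow, iha, ihb, one_mul]
  | inv a _ ih => rw [inv_pow, ih, inv_one]

section gen

variable {D : ChevalleyDatum} {l : ℕ} {M : CoxeterMatrix (Fin l)} (hp : IsType D l M) (r : ℕ) [Fact r.Prime]
  {k : Type u} [Field k] [IsAlgClosed k] [CharP k r] (hk : LocFin k)

include hk in
/-- **Commuting pairs of elements of order `p` are toral.** -/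
theorem toral_pair {p e : ℕ} (hpp : p.Prime) (hpr : p ≠ r) (hW : ¬ p ^ (e + 1) ∣ Nat.card M.Group)
    {B : Fin l → Fin l → ℤ} {d : ℕ} (hB : InvC D l d B) (hpd : d.Coprime p)
    (F : Frm M.toCoxeterSystem hp.isCartan (bf (cartanOf D l))) {t f : ↥(D.group k)} (ht : t ∈ TT D k)
    (htp : t ^ p = 1) (hfp : f ^ p = 1) (hc : f * t = t * f) :
    ∃ g : ↥(D.group k), ∀ y ∈ Subgroup.closure ({f, t} : Set ↥(D.group k)), g * y * g⁻¹ ∈ TT D k := by
  have hWf := finite_W hp M.toCoxeterSystem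
  have hC : Con (k := k) hp M.toCoxeterSystem hk r p := con_of_frm hp M.toCoxeterSystem hk r hpp hpr hB hpd F
  obtain ⟨m₀, hm₀, t₀, ht₀, e₀⟩ := cent_form hp M.toCoxeterSystem hk r hC ht htp hc
  refine exists_toral_step hp r hk hpp hpr (e := e) (n := 1) hW (Set.finite_singleton t)
    (by rw [Set.singleton_subset_iff]; exact ht) e₀ hm₀ ht₀ (by rw [pow_one]; exact hfp)
    (isPGroup_closure_pair htp hfp hc) ?_
  exact le_of_eq rfl

end gen

/-- **`E₈`, `p = 5`.** -/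
theorem toral_two {M : CoxeterMatrix (Fin 8)} (hp : IsType chevE8 8 M) (r : ℕ) [Fact r.Prime] (hr : 5 ≠ r)
    {k : Type u} [Field k] [IsAlgClosed k] [CharP k r] (hk : LocFin k) {t f : ↥(chevE8.group k)} (ht : t ∈ TT chevE8 k)
    (ht5 : t ^ 5 = 1) (hf5 : f ^ 5 = 1) (hc : f * t = t * f) :
    ∃ g : ↥(chevE8.group k), ∀ y ∈ Subgroup.closure ({f, t} : Set ↥(chevE8.group k)), g * y * g⁻¹ ∈ TT chevE8 k := by
  refine toral_pair hp r hk (e := 2) (p := 5) (by norm_num) hr ?_ invC_E8 (by norm_num)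
    (Cfsg.Agent.H897.X3.frm8 hp M.toCoxeterSystem) ht ht5 hf5 hc
  rw [Cfsg.Agent.H897.X3.eq_E8 hp, card_E8]
  norm_num

end Cfsg.Agent.H889.Mono
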