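import Mathlib

/-!
# S2187, M9: operators of order five on a space of dimension `8` with a fixed vector (helper889)
-/

set_option autoImplicit false

namespace Cfsg.Agent.H889.Mono.Five

open Polynomial

section

variable {V : Type*} [AddCommGroup V] [Module ℚ V]

theorem phi_irr : Irreducible (cyclotomic 5 ℚ) := cyclotomic.irreducible_rat (by norm_num)

/-- `Φ₅ = 1 + X + X² + X³ + X⁴` -/
theorem phi_eq : cyclotomic 5 ℚ = 1 + X + X ^ 2 + X ^ 3 + X ^ 4 := by
  have : Fact (Nat.Prime 5) := ⟨by norm_num⟩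
  rw [cyclotomic_prime]
  simp only [Finset.sum_range_succ, Finset.sum_range_zero, pow_zero, pow_one, zero_add]

theorem phi_deg : (cyclotomic 5 ℚ).natDegree = 4 := by
  rw [natDegree_cyclotomic]
  decide

theorem aeval_phi (w : Module.End ℚ V) (x : V) :
    aeval w (cyclotomic 5 ℚ) x = x + w x + w (w x) + w (w (w x)) + w (w (w (w x))) := by
  rw [phi_eq]
  simp only [map_add, map_pow, map_one, aeval_X, LinearMap.add_apply, Module.End.one_apply, Module.End.pow_apply,
    Function.iterate_succ, Function.iterate_zero, Function.comp_apply, id]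

/-- two polynomials in `w` commute -/
theorem aeval_comm (w : Module.End ℚ V) (P Q : ℚ[X]) (x : V) : aeval w P (aeval w Q x) = aeval w Q (aeval w P x) := by
  rw [← Module.End.mul_apply, ← map_mul, mul_comm, map_mul, Module.End.mul_apply]

/-- the annihilator of a non-zero vector of `N = ker Φ₅(w)` -/
theorem dvd_of_aeval {w : Module.End ℚ V} {x : V} (hx : aeval w (cyclotomic 5 ℚ) x = 0) (hx0 : x ≠ 0) {P : ℚ[X]}
    (hP : aeval w P x = 0) : cyclotomic 5 ℚ ∣ P := by
  by_contra hcon
  obtain ⟨a, b, hab⟩ := (phi_irr.coprime_iff_not_dvd).2 hcon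
  apply hx0
  have h1 := congrArg (fun Q => aeval w Q x) hab
  simp only [map_add, map_mul, map_one, LinearMap.add_apply, Module.End.mul_apply, Module.End.one_apply] at h1
  rw [hx, hP, map_zero, map_zero, add_zero] at h1
  exact h1.symm

theorem inv_of_ndvd {w : Module.End ℚ V} {P : ℚ[X]} (hP : ¬ cyclotomic 5 ℚ ∣ P) :
    ∃ U : ℚ[X], ∀ y : V, aeval w (cyclotomic 5 ℚ) y = 0 → aeval w U (aeval w P y) = y := by
  obtain ⟨a, b, hab⟩ := (phi_irr.coprime_iff_not_dvd).2 hP
  refine ⟨b, fun y hy => ?_⟩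
  have h1 := congrArg (fun Q => aeval w Q y) hab
  simp only [map_add, map_mul, map_one, LinearMap.add_apply, Module.End.mul_apply, Module.End.one_apply] at h1
  rwa [hy, map_zero, zero_add] at h1

/-- a vector of `N` fixed by `w` is zero -/
theorem fix_zero {w : Module.End ℚ V} {x : V} (hx : aeval w (cyclotomic 5 ℚ) x = 0) (hw : w x = x) : x = 0 := by
  rw [aeval_phi, hw, hw, hw, hw] at hx
  have h1 : (5 : ℚ) • x = 0 := by
    rw [← hx]
    module
  exact (smul_eq_zero.1 h1).resolve_left (by norm_num)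

/-- **`N` is cyclic.** -/
theorem exists_poly [FiniteDimensional ℚ V] (h8 : Module.finrank ℚ V = 8) {w : Module.End ℚ V} {f x y : V} (hf : w f = f)
    (hf0 : f ≠ 0) (hx : aeval w (cyclotomic 5 ℚ) x = 0) (hx0 : x ≠ 0) (hy : aeval w (cyclotomic 5 ℚ) y = 0) :
    ∃ P : ℚ[X], y = aeval w P x := by
  classical
  let E := (degreeLT ℚ 4) × (degreeLT ℚ 4) × ℚ
  let T : E →ₗ[ℚ] V :=
    { toFun := fun t => aeval w (t.1 : ℚ[X]) x + aeval w (t.2.1 : ℚ[X]) y + t.2.2 • f
      map_add' := by
        rintro ⟨a, b, c⟩ ⟨a', b', c'⟩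
        show aeval w ((a + a' : degreeLT ℚ 4) : ℚ[X]) x + aeval w ((b + b' : degreeLT ℚ 4) : ℚ[X]) y + (c + c') • f =
          (aeval w (a : ℚ[X]) x + aeval w (b : ℚ[X]) y + c • f) + (aeval w (a' : ℚ[X]) x + aeval w (b' : ℚ[X]) y + c' • f)
        rw [Submodule.coe_add, Submodule.coe_add, map_add, map_add, LinearMap.add_apply, LinearMap.add_apply, add_smul]
        abel
      map_smul' := by
        rintro m ⟨a, b, c⟩
        show aeval w ((m • a : degreeLT ℚ 4) : ℚ[X]) x + aeval w ((m • b : degreeLT ℚ 4) : ℚ[X]) y + (m * c) • f =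
          m • (aeval w (a : ℚ[X]) x + aeval w (b : ℚ[X]) y + c • f)
        rw [Submodule.coe_smul, Submodule.coe_smul, map_smul, map_smul, LinearMap.smul_apply, LinearMap.smul_apply,
          mul_smul, smul_add, smul_add] }
  have hE : Module.finrank ℚ E = 9 := by
    show Module.finrank ℚ ((degreeLT ℚ 4) × (degreeLT ℚ 4) × ℚ) = 9
    have h4 : Module.finrank ℚ (degreeLT ℚ 4) = 4 := by
      rw [LinearEquiv.finrank_eq (degreeLTEquiv ℚ 4), Module.finrank_fin_fun]
    have : Module.Finite ℚ (degreeLT ℚ 4) := Module.Finite.equiv (degreeLTEquiv ℚ 4).symm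
    rw [Module.finrank_prod, Module.finrank_prod, h4, Module.finrank_self]
  have hfin : Module.Finite ℚ E := Module.finite_of_finrank_pos (by rw [hE]; norm_num)
  have hk : LinearMap.ker T ≠ ⊥ := LinearMap.ker_ne_bot_of_finrank_lt (by rw [h8, hE]; norm_num)
  obtain ⟨⟨⟨P, hP⟩, ⟨Q, hQ⟩, c⟩, ht, ht0⟩ := Submodule.exists_mem_ne_zero_of_ne_bot hk
  rw [LinearMap.mem_ker] at ht
  have h1 : aeval w P x + aeval w Q y + c • f = 0 := ht
  have hz : aeval w (cyclotomic 5 ℚ) (aeval w P x + aeval w Q y) = 0 := by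
    rw [map_add, aeval_comm, hx, aeval_comm, hy, map_zero, map_zero, add_zero]
  have h2 : aeval w P x + aeval w Q y = 0 := by
    apply fix_zero hz
    have h3 : aeval w P x + aeval w Q y = -(c • f) := by
      rw [← sub_eq_zero, sub_neg_eq_add, h1]
    rw [h3, map_neg, map_smul, hf]
  have hnd : ∀ R ∈ degreeLT ℚ 4, cyclotomic 5 ℚ ∣ R → R = 0 := by
    intro R hR hd
    by_contra hR0
    have h3 := natDegree_le_of_dvd hd hR0
    rw [phi_deg] at h3
    rw [mem_degreeLT] at hR
    have h4 := natDegree_lt_iff_degree_lt hR0 (n := 4)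
    have h5 := h4.2 (by exact_mod_cast hR)
    omega
  by_cases hQ0 : Q = 0
  · exfalso
    rw [hQ0, map_zero, LinearMap.zero_apply, add_zero] at h2
    have hP0 : P = 0 := hnd P hP (dvd_of_aeval hx hx0 h2)
    have hc : c = 0 := by
      rw [hQ0, hP0, map_zero, LinearMap.zero_apply, LinearMap.zero_apply, zero_add, zero_add] at h1
      exact (smul_eq_zero.1 h1).resolve_right hf0
    apply ht0
    simp only [hP0, hQ0, hc]
    rfl
  · obtain ⟨U, hU⟩ := inv_of_ndvd (w := w) (P := Q) fun hd => hQ0 (hnd Q hQ hd)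
    refine ⟨-(U * P), ?_⟩
    have h3 := hU y hy
    have h4 : aeval w Q y = -(aeval w P x) := by
      rw [← sub_eq_zero, sub_neg_eq_add, add_comm, h2]
    rw [h4, map_neg] at h3
    rw [← h3, map_neg, map_mul, LinearMap.neg_apply, Module.End.mul_apply]

/-- **the centralizer**: `v` commutes with `w`, `v⁵ = 1` -/
theorem exists_pow [FiniteDimensional ℚ V] (h8 : Module.finrank ℚ V = 8) {w v : Module.End ℚ V} {f x : V} (hf : w f = f)
    (hf0 : f ≠ 0) (hx : aeval w (cyclotomic 5 ℚ) x = 0) (hvw : v * w = w * v) (hv : v ^ 5 = 1) :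
    ∃ j : ℕ, v x = (w ^ j) x := by
  by_cases hx0 : x = 0
  · exact ⟨0, by rw [hx0, map_zero, map_zero]⟩
  have hcomm : ∀ (P : ℚ[X]) (y : V), v (aeval w P y) = aeval w P (v y) := by
    intro P y
    have h1 : Commute v (aeval w P) := by
      induction P using Polynomial.induction_on' with
      | add p q hp hq => rw [map_add]; exact hp.add_right hq
      | monomial n a =>
        rw [aeval_monomial]
        have h3 : Commute v (algebraMap ℚ (Module.End ℚ V) a) := (Algebra.commutes a v).symm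
        exact h3.mul_right ((show Commute v w from hvw).pow_right n)
    have h2 := congrArg (fun T : Module.End ℚ V => T y) h1.eq
    simpa only [Module.End.mul_apply] using h2
  have hvx : aeval w (cyclotomic 5 ℚ) (v x) = 0 := by rw [← hcomm, hx, map_zero]
  obtain ⟨P, hP⟩ := exists_poly h8 hf hf0 hx hx0 hvx
  have hpow : ∀ n : ℕ, (v ^ n) x = aeval w (P ^ n) x := by
    intro n
    induction n with
    | zero => rw [pow_zero, pow_zero, map_one]
    | succ n ih => rw [pow_succ', Module.End.mul_apply, ih, hcomm, hP, pow_succ, map_mul, Module.End.mul_apply]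
  have h5 : aeval w (P ^ 5 - 1) x = 0 := by
    rw [map_sub, LinearMap.sub_apply, ← hpow, hv, map_one, sub_self]
  have hd := dvd_of_aeval hx hx0 h5
  have : Fact (Irreducible (cyclotomic 5 ℚ)) := ⟨phi_irr⟩
  have hζ : IsPrimitiveRoot (AdjoinRoot.root (cyclotomic 5 ℚ)) 5 := by
    have h6 : (cyclotomic 5 (AdjoinRoot (cyclotomic 5 ℚ))).IsRoot (AdjoinRoot.root (cyclotomic 5 ℚ)) := by
      rw [IsRoot.def, ← map_cyclotomic 5 (algebraMap ℚ (AdjoinRoot (cyclotomic 5 ℚ))), eval_map]
      exact AdjoinRoot.eval₂_root _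
    exact isRoot_cyclotomic_iff.1 h6
  have h7 : (AdjoinRoot.mk (cyclotomic 5 ℚ) P) ^ 5 = 1 := by
    rw [← map_pow, ← map_one (AdjoinRoot.mk (cyclotomic 5 ℚ)), AdjoinRoot.mk_eq_mk]
    exact hd
  obtain ⟨j, -, hj⟩ := hζ.eq_pow_of_pow_eq_one h7
  refine ⟨j, ?_⟩
  rw [← AdjoinRoot.mk_X, ← map_pow, AdjoinRoot.mk_eq_mk] at hj
  obtain ⟨R, hR⟩ := hj
  have h8 : X ^ j = P + cyclotomic 5 ℚ * R := by rw [← hR]; ring
  have h9 := congrArg (fun Q => aeval w Q x) h8
  simp only [map_add, map_mul, map_pow, aeval_X, LinearMap.add_apply, Module.End.mul_apply] at h9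
  rw [aeval_comm, hx, map_zero, add_zero] at h9
  rw [h9, hP]

end

end Cfsg.Agent.H889.Mono.Five
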